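import Groth.Agent.QC70.Stalk
import Groth.Agent.QC70.Closure
import Groth.Prelude.Def_TorSh
import Mathlib.AlgebraicGeometry.FunctionField

/-!
The sheaf of rational functions of an integral scheme.
-/

universe u

open CategoryTheory CategoryTheory.Limits AlgebraicGeometry Opposite TopologicalSpace

set_option backward.isDefEq.respectTransparency.types false

noncomputable section

namespace Groth.Agent.Tor47

open QC70

variable {X : Scheme.{u}} [IsIntegral X]

local notation "η" => genericPoint X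
local notation "jη" => X.fromSpecStalk (genericPoint X)

theorem mem_of_mem {U : X.Opens} {x : X} (hx : x ∈ U) : η ∈ U :=
  (genericPoint_specializes x).mem_open U.isOpen hx

theorem preimage_eq_top {U : X.Opens} (hU : η ∈ U) : jη ⁻¹ᵁ U = ⊤ := by
  refine top_le_iff.mp fun z _ => ?_
  have : Subsingleton (Spec (X.presheaf.stalk η)) :=
    inferInstanceAs (Subsingleton (PrimeSpectrum X.functionField))
  rw [Subsingleton.elim z (IsLocalRing.closedPoint (X.presheaf.stalk η))]
  show jη _ ∈ U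
  rwa [Scheme.fromSpecStalk_closedPoint]

/-- Constants on `Spec K`, restricted to an open. -/
def toSec (U : X.Opens) : (X.presheaf.stalk η) →+* Γ(Spec (X.presheaf.stalk η), jη ⁻¹ᵁ U) :=
  ((Scheme.ΓSpecIso (X.presheaf.stalk η)).inv ≫
    (Spec (X.presheaf.stalk η)).presheaf.map (homOfLE (le_top : jη ⁻¹ᵁ U ≤ ⊤)).op).hom

theorem toSec_bijective {U : X.Opens} (hU : η ∈ U) : Function.Bijective (toSec U) := by
  have h : IsIso (homOfLE (le_top : jη ⁻¹ᵁ U ≤ ⊤)) :=
    ⟨homOfLE (preimage_eq_top hU).ge, Subsingleton.elim _ _, Subsingleton.elim _ _⟩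
  exact ConcreteCategory.bijective_of_isIso ((Scheme.ΓSpecIso (X.presheaf.stalk η)).inv ≫
    (Spec (X.presheaf.stalk η)).presheaf.map (homOfLE (le_top : jη ⁻¹ᵁ U ≤ ⊤)).op)

theorem app_eq {U : X.Opens} (hU : η ∈ U) (r : Γ(X, U)) :
    (jη).app U r = toSec U (X.presheaf.germ U η hU r) := by
  rw [Scheme.fromSpecStalk_app hU]
  rfl

theorem res_toSec {U V : X.Opens} (h : V ≤ U) (c : X.presheaf.stalk η) :
    (Spec (X.presheaf.stalk η)).presheaf.map ((Opens.map (jη).base).map (homOfLE h)).op (toSec U c) = toSec V c := by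
  change ((Spec (X.presheaf.stalk η)).presheaf.map (homOfLE (le_top : jη ⁻¹ᵁ U ≤ ⊤)).op ≫
    (Spec (X.presheaf.stalk η)).presheaf.map ((Opens.map (jη).base).map (homOfLE h)).op).hom
      ((Scheme.ΓSpecIso (X.presheaf.stalk η)).inv c) = _
  rw [← Functor.map_comp]
  rfl

/-- The map to rational functions attached to a functional on the generic stalk. -/
def toRat (F : X.Modules) (φ : F.presheaf.stalk η →ₗ[X.presheaf.stalk η] X.presheaf.stalk η) :
    F ⟶ (Scheme.Modules.pushforward jη).obj (Coh.structureModule (Spec (X.presheaf.stalk η))) := by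
  classical
  refine ⟨PresheafOfModules.homMk
    { app := fun U => AddCommGrpCat.ofHom (if hU : η ∈ U.unop then
        (toSec U.unop).toAddMonoidHom.comp (φ.toAddMonoidHom.comp (F.presheaf.germ U.unop η hU).hom) else 0)
      naturality := ?_ } ?_⟩
  · intro U V f
    ext (s : Γ(F, U.unop))
    by_cases hV : η ∈ V.unop
    · have hU : η ∈ U.unop := f.unop.le hV
      simp only [AddCommGrpCat.hom_comp, AddMonoidHom.coe_comp, Function.comp_apply,
        dif_pos hV, dif_pos hU]
      change toSec V.unop (φ (germM F V.unop η hV (res F f.unop.le s))) = _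
      rw [germM_res]
      exact (res_toSec f.unop.le _).symm
    · by_cases hU : η ∈ U.unop
      · have hb : jη ⁻¹ᵁ V.unop = ⊥ := by
          ext z; exact ⟨fun hz => (hV (mem_of_mem (x := (jη) z) hz)).elim, fun h => h.elim⟩
        have : Subsingleton Γ(Spec (X.presheaf.stalk η), jη ⁻¹ᵁ V.unop) := by
          rw [hb]; infer_instance
        exact this.elim _ _
      · simp only [AddCommGrpCat.hom_comp, AddMonoidHom.coe_comp, Function.comp_apply,
          dif_neg hV, dif_neg hU]
        exact (map_zero _).symm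
  · intro U (r : Γ(X, U.unop)) (s : Γ(F, U.unop))
    by_cases hU : η ∈ U.unop
    · simp only [dif_pos hU]
      change toSec U.unop (φ (germM F U.unop η hU (r • s))) = (jη).app U.unop r * toSec U.unop (φ (germM F U.unop η hU s))
      rw [germM_smul, map_smul, smul_eq_mul, map_mul, app_eq hU]
    · simp only [dif_neg hU]
      change (0 : Γ(Spec (X.presheaf.stalk η), jη ⁻¹ᵁ U.unop)) = (jη).app U.unop r * 0
      rw [mul_zero]

theorem toRat_app (F : X.Modules) (φ : F.presheaf.stalk η →ₗ[X.presheaf.stalk η] X.presheaf.stalk η)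
    (U : X.Opens) (hU : η ∈ U) (s : Γ(F, U)) :
    (toRat F φ).app U s = toSec U (φ (germM F U η hU s)) := by
  classical
  change (AddCommGrpCat.ofHom (if hU : η ∈ U then _ else _)).hom s = _
  rw [dif_pos hU]
  rfl

/-- A quasi-coherent torsion-free module injects into its generic stalk. -/
theorem eq_zero_of_germ {F : X.Modules} [Coh.IsQCoh F] (hF : TorSh.IsTorsionFree F) {U : X.Opens} (hU : η ∈ U)
    (s : Γ(F, U)) (h : germM F U η hU s = 0) : s = 0 := by
  refine section_ext F s 0 fun x hx => ?_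
  obtain ⟨V, hV, hxV, hVU⟩ := exists_isAffineOpen_mem_and_subset hx
  obtain ⟨f, hf, hfs⟩ := stalk_exists_smul_eq_zero (isLocAt_of_isQuasicoherent F hV) hV (mem_of_mem hxV)
    (res F hVU s) (by rw [germM_res]; exact h)
  have h0 : X.presheaf.germ V x hxV f • germM F V x hxV (res F hVU s) = 0 := by
    rw [← germM_smul, hfs]; exact germM_zero hxV
  have hf0 : X.presheaf.germ V x hxV f ≠ 0 := fun h1 => by
    have : Nonempty V := ⟨⟨x, hxV⟩⟩
    have h2 : f = 0 := germ_injective_of_isIntegral _ _ hxV (h1.trans (map_zero _).symm)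
    rw [h2, Scheme.basicOpen_zero] at hf
    exact hf
  have := hF x
  obtain ⟨W, hW, hxW, hW0⟩ := germM_eq_zero ((smul_eq_zero.1 h0).resolve_left hf0)
  exact ⟨W, hW.trans hVU, hxW, by rw [← res_res hVU hW]; exact hW0.trans (res_zero _).symm⟩

theorem exists_mono_toRat (F : X.Modules) [Coh.IsQCoh F] (hF : TorSh.IsTorsionFree F)
    (h1 : Module.finrank (X.presheaf.stalk η) (F.presheaf.stalk η) = 1) :
    ∃ i : F ⟶ (Scheme.Modules.pushforward jη).obj (Coh.structureModule (Spec (X.presheaf.stalk η))), Mono i := by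
  obtain ⟨v, hv, hspan⟩ := finrank_eq_one_iff'.1 h1
  have hbij : Function.Bijective (LinearMap.toSpanSingleton (X.presheaf.stalk η) (F.presheaf.stalk η) v) :=
    ⟨fun a b h => smul_left_injective (X.presheaf.stalk η) hv h, hspan⟩
  let e := LinearEquiv.ofBijective _ hbij
  refine ⟨toRat F e.symm.toLinearMap, mono_of_app_injective _ fun U s t hst => ?_⟩
  by_cases hU : η ∈ U
  · rw [toRat_app _ _ _ hU, toRat_app _ _ _ hU] at hst
    have h := e.symm.injective ((toSec_bijective hU).1 hst)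
    exact sub_eq_zero.1 (eq_zero_of_germ hF hU _ (by rw [germM, map_sub, sub_eq_zero]; exact h))
  · exact section_ext F s t fun x hx => absurd (mem_of_mem hx) hU

variable {G : X.Modules} (i : G ⟶ (Scheme.Modules.pushforward (X.fromSpecStalk (genericPoint X))).obj
  (Coh.structureModule (Spec (X.presheaf.stalk (genericPoint X)))))
  [Mono i]

/-- The rational function of a section. -/
def sec (U : X.Opens) (s : Γ(G, U)) : Γ(Spec (X.presheaf.stalk η), jη ⁻¹ᵁ U) := i.app U s

omit [Mono i] in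
theorem sec_zero (U : X.Opens) : sec i U 0 = 0 := map_zero _

theorem eq_zero_of_sec {U : X.Opens} {s : Γ(G, U)} (h : sec i U s = 0) : s = 0 :=
  app_injective_of_mono i U (h.trans (sec_zero i U).symm)

omit [Mono i] in
theorem sec_res {U V : X.Opens} (h : V ≤ U) (s : Γ(G, U)) :
    sec i V (res G h s) = (Spec (X.presheaf.stalk η)).presheaf.map ((Opens.map (jη).base).map (homOfLE h)).op (sec i U s) :=
  app_res i h s

omit [Mono i] in
theorem app_smul' {U : X.Opens} (hU : η ∈ U) (r : Γ(X, U)) (s : Γ(G, U)) :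
    sec i U (r • s) = toSec U (X.presheaf.germ U η hU r) * sec i U s := by
  unfold sec
  rw [Scheme.Modules.Hom.app_smul, ← app_eq hU]
  rfl

include i in
theorem isTorsionFree_of_mono : TorSh.IsTorsionFree G := fun x => by
  refine Module.IsTorsionFree.of_smul_eq_zero fun r m hrm => ?_
  by_contra h
  push Not at h
  obtain ⟨hr, hm⟩ := h
  obtain ⟨W₁, hx₁, a, rfl⟩ := TopCat.Presheaf.exists_germ_eq X.presheaf r
  obtain ⟨W₂, hx₂, s, rfl⟩ := germM_exist m
  have hx : x ∈ W₁ ⊓ W₂ := ⟨hx₁, hx₂⟩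
  rw [← germ_resO (inf_le_left : W₁ ⊓ W₂ ≤ W₁) hx, ← germM_res (inf_le_right : W₁ ⊓ W₂ ≤ W₂) hx, ← germM_smul] at hrm
  obtain ⟨W, hW, hxW, h0⟩ := germM_eq_zero hrm
  rw [res_smul] at h0
  have hη := mem_of_mem hxW
  have h1 := app_smul' i hη (resO X hW (resO X inf_le_left a)) (res G hW (res G inf_le_right s))
  rw [h0, sec_zero] at h1
  obtain ⟨c, hc⟩ := (toSec_bijective hη).2 (sec i W (res G hW (res G inf_le_right s)))
  rw [← hc] at h1
  have h2 : (0 : X.presheaf.stalk η) = X.presheaf.germ W η hη (resO X hW (resO X inf_le_left a)) * c :=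
    (toSec_bijective hη).1 (by rw [map_zero, map_mul]; exact h1)
  rcases mul_eq_zero.1 h2.symm with h3 | h3
  · have : Nonempty W := ⟨⟨x, hxW⟩⟩
    refine hr ?_
    rw [← germ_resO (inf_le_left : W₁ ⊓ W₂ ≤ W₁) hx, ← germ_resO hW hxW,
      germ_injective_of_isIntegral _ _ hη (h3.trans (map_zero _).symm), map_zero]
  · refine hm ?_
    rw [h3, map_zero] at hc
    rw [← germM_res (inf_le_right : W₁ ⊓ W₂ ≤ W₂) hx, ← germM_res hW hxW,
      eq_zero_of_sec i hc.symm]
    exact germM_zero hxW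

include i in
theorem finrank_eq_one_of_mono (hG : ¬ Limits.IsZero G) :
    Module.finrank (X.presheaf.stalk η) (G.presheaf.stalk η) = 1 := by
  have key : ∀ {W : X.Opens} (hW : η ∈ W) (s : Γ(G, W)), germM G W η hW s = 0 → s = 0 := by
    intro W hW s h
    obtain ⟨W', hW', hη, h0⟩ := germM_eq_zero h
    refine eq_zero_of_sec i ?_
    obtain ⟨c, hc⟩ := (toSec_bijective hW).2 (sec i W s)
    have h1 : toSec W' c = toSec W' 0 := by
      rw [map_zero, ← res_toSec hW' c, hc, ← sec_res i hW', h0, sec_zero]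
    rw [← hc, (toSec_bijective hη).1 h1, map_zero]
  obtain ⟨U, s, hs⟩ : ∃ (U : X.Opens) (s : Γ(G, U)), s ≠ 0 := by
    by_contra h
    push Not at h
    refine hG ((IsZero.iff_id_eq_zero _).2 ?_)
    ext U t
    exact (h U t).trans (h U _).symm
  obtain ⟨x, hx⟩ : ∃ x, x ∈ U := by
    by_contra h
    exact hs (section_ext G s 0 fun x hx => absurd ⟨x, hx⟩ h)
  have hU := mem_of_mem hx
  refine finrank_eq_one_iff'.2 ⟨germM G U η hU s, fun h => hs (key hU s h), fun w => ?_⟩
  obtain ⟨W, hW, t, rfl⟩ := germM_exist w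
  have hη : η ∈ U ⊓ W := ⟨hU, hW⟩
  obtain ⟨c, hc⟩ := (toSec_bijective hη).2 (sec i _ (res G inf_le_left s : Γ(G, U ⊓ W)))
  obtain ⟨d, hd⟩ := (toSec_bijective hη).2 (sec i _ (res G inf_le_right t : Γ(G, U ⊓ W)))
  have hc0 : c ≠ 0 := fun h => hs (key hU s (by
    rw [h, map_zero] at hc
    rw [← germM_res (inf_le_left : U ⊓ W ≤ U) hη,
      eq_zero_of_sec i hc.symm]
    exact germM_zero hη))
  obtain ⟨r, hr⟩ : ∃ r : X.presheaf.stalk η, r * c = d := ⟨d * (show X.functionField from c)⁻¹, by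
    rw [mul_assoc]; exact (congrArg (d * ·) (inv_mul_cancel₀ (show (show X.functionField from c) ≠ 0 from hc0))).trans (mul_one d)⟩
  obtain ⟨V, hV, a, ha⟩ := TopCat.Presheaf.exists_germ_eq X.presheaf r
  refine ⟨r, ?_⟩
  have hη' : η ∈ V ⊓ (U ⊓ W) := ⟨hV, hη⟩
  rw [← germM_res (inf_le_left : U ⊓ W ≤ U) hη, ← germM_res (inf_le_right : V ⊓ (U ⊓ W) ≤ _) hη', ← ha,
    ← germ_resO (inf_le_left : V ⊓ (U ⊓ W) ≤ V) hη', ← germM_smul,
    ← germM_res (inf_le_right : U ⊓ W ≤ W) hη, ← germM_res (inf_le_right : V ⊓ (U ⊓ W) ≤ _) hη' (res G _ t)]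
  congr 1
  refine app_injective_of_mono i _ ?_
  change sec i _ _ = sec i _ _
  rw [app_smul' i hη', sec_res i (inf_le_right : V ⊓ (U ⊓ W) ≤ _) (res G inf_le_left s),
    sec_res i (inf_le_right : V ⊓ (U ⊓ W) ≤ _) (res G inf_le_right t), ← hc, ← hd, res_toSec, res_toSec]
  rw [germ_resO, ha, ← map_mul, hr]

end Groth.Agent.Tor47
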